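import Mathlib
import Groth.Prelude.Def_ExtPow2
import Groth.Agent.KFlatLib.PreTensor

/-!
# The presheaf of exterior powers of a module, and its sheafification
-/

set_option autoImplicit false
set_option linter.unusedSectionVars false

universe u

open CategoryTheory AlgebraicGeometry Opposite TopologicalSpace

noncomputable section

namespace ExtTopLib

section Algebra

variable {A B : Type u} [CommRing A] [CommRing B] (g : A →+* B) (n : ℕ)
  {M : Type u} [AddCommGroup M] [Module A M] {N : Type u} [AddCommGroup N] [Module B N] (h : M →ₛₗ[g] N)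

/-- The wedge of the images, as an alternating map over the source ring. -/
def semiAlt : M [⋀^Fin n]→ₗ[A] ↑((ModuleCat.restrictScalars g).obj (ModuleCat.of B ↥(⋀[B]^n N))) where
  toFun v := exteriorPower.ιMulti B n (fun i => h (v i))
  map_update_add' {inst} v i x y := by
    classical
    have e : ∀ z, (fun j => h (Function.update v i z j)) = Function.update (fun j => h (v j)) i (h z) := fun z =>
      funext fun j => Function.apply_update (fun _ => h) v i z j
    show exteriorPower.ιMulti B n _ = exteriorPower.ιMulti B n _ + exteriorPower.ιMulti B n _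
    rw [e, e, e, map_add, AlternatingMap.map_update_add]
    rfl
  map_update_smul' {inst} v i c x := by
    classical
    have e : ∀ z, (fun j => h (Function.update v i z j)) = Function.update (fun j => h (v j)) i (h z) := fun z =>
      funext fun j => Function.apply_update (fun _ => h) v i z j
    show exteriorPower.ιMulti B n (fun j => h (Function.update v i (c • x) j)) =
      g c • (exteriorPower.ιMulti B n (fun j => h (Function.update v i x j)) : ↥(⋀[B]^n N))
    rw [e, e, map_smulₛₗ, AlternatingMap.map_update_smul]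
  map_eq_zero_of_eq' v i j hij hne :=
    (exteriorPower.ιMulti B n).map_eq_zero_of_eq _ (congrArg h hij) hne

/-- The map induced on exterior powers by a semilinear map. -/
def semiMap : ↥(⋀[A]^n M) →ₗ[A] ↑((ModuleCat.restrictScalars g).obj (ModuleCat.of B ↥(⋀[B]^n N))) :=
  exteriorPower.alternatingMapLinearEquiv (semiAlt g n h)

theorem semiMap_ι (v : Fin n → M) :
    semiMap g n h (exteriorPower.ιMulti A n v) = exteriorPower.ιMulti B n (fun i => h (v i)) :=
  exteriorPower.alternatingMapLinearEquiv_apply_ιMulti _ v

end Algebra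

variable {X : Scheme.{u}} (E : X.Modules) (n : ℕ)

/-- Restriction of sections, semilinearly. -/
def resL {U V : (Opens ↥X)ᵒᵖ} (i : U ⟶ V) :
    E.val.obj (op U.unop) →ₛₗ[(X.presheaf.map i).hom] E.val.obj (op V.unop) where
  toFun := E.val.map i
  map_add' := map_add (E.val.map i).hom
  map_smul' c m := PresheafOfModules.map_smul E.val i c m

/-- The presheaf of exterior powers. -/
def pre : X.PresheafOfModules where
  obj U := ModuleCat.of Γ(X, U.unop) ↥(⋀[Γ(X, U.unop)]^n (E.val.obj (op U.unop)))
  map {U V} i := ModuleCat.ofHom (X := ↥(⋀[Γ(X, U.unop)]^n (E.val.obj (op U.unop))))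
    (Y := ↑((ModuleCat.restrictScalars (X.presheaf.map i).hom).obj (ModuleCat.of Γ(X, V.unop) ↥(⋀[Γ(X, V.unop)]^n (E.val.obj (op V.unop))))))
    (semiMap (X.presheaf.map i).hom n (resL E i))
  map_id U := by
    refine ModuleCat.hom_ext (exteriorPower.linearMap_ext (AlternatingMap.ext fun v => ?_))
    refine (semiMap_ι _ n _ v).trans ?_
    refine congrArg (exteriorPower.ιMulti Γ(X, U.unop) n) (funext fun j => ?_)
    exact congrArg (fun φ : E.val.presheaf.obj U ⟶ E.val.presheaf.obj U => φ (v j)) (E.val.presheaf.map_id U)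
  map_comp {U V W} i k := by
    refine ModuleCat.hom_ext (exteriorPower.linearMap_ext (AlternatingMap.ext fun v => ?_))
    refine (semiMap_ι _ n _ v).trans ?_
    refine Eq.trans ?_ (congrArg (semiMap (X.presheaf.map k).hom n (resL E k)) (semiMap_ι _ n (resL E i) v)).symm
    refine Eq.trans ?_ (semiMap_ι _ n (resL E k) _).symm
    refine congrArg (exteriorPower.ιMulti Γ(X, W.unop) n) (funext fun j => ?_)
    exact congrArg (fun φ : E.val.presheaf.obj U ⟶ E.val.presheaf.obj W => φ (v j)) (E.val.presheaf.map_comp i k)

/-- The sheaf of exterior powers. -/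
def ext : X.Modules :=
  (PresheafOfModules.sheafification.{u} (R := X.ringCatSheaf) (𝟙 X.ringCatSheaf.obj)).obj (pre E n)

/-- The canonical map. -/
def unitHom : pre E n ⟶ (PresheafOfModules.restrictScalars (𝟙 X.ringCatSheaf.obj)).obj (ext E n).val :=
  (PresheafOfModules.sheafificationAdjunction.{u} (R := X.ringCatSheaf) (𝟙 X.ringCatSheaf.obj)).unit.app (pre E n)

/-- The canonical map on sections. -/
def unit (U : X.Opens) : ↥(⋀[Γ(X, U)]^n (E.val.obj (op U))) →ₗ[Γ(X, U)] (ext E n).val.obj (op U) where
  toFun z := (unitHom E n).app (op U) z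
  map_add' z w := map_add ((unitHom E n).app (op U)).hom z w
  map_smul' c z := map_smul ((unitHom E n).app (op U)).hom c z

/-- Restriction commutes with the canonical map. -/
theorem unit_res {U V : X.Opens} (h : V ≤ U) (e : Fin n → E.val.obj (op U)) :
    (ext E n).val.map (homOfLE h).op (unit E n U (exteriorPower.ιMulti _ n e)) =
      unit E n V (exteriorPower.ιMulti _ n fun j => E.val.map (homOfLE h).op (e j)) :=
  (PresheafOfModules.naturality_apply (unitHom E n) (homOfLE h).op (exteriorPower.ιMulti _ n e)).symm.trans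
    (congrArg ((unitHom E n).app (op V)) (semiMap_ι _ n (resL E (homOfLE h).op) e))

/-- The canonical map on stalks. -/
def unitStalk (x : X) : TopCat.Presheaf.stalk (pre E n).presheaf x ⟶ (ext E n).presheaf.stalk x :=
  (TopCat.Presheaf.stalkFunctor AddCommGrpCat.{u} x).map
    ((PresheafOfModules.toPresheaf _).map (unitHom E n))

instance isIso_unitStalk (x : X) : IsIso (unitStalk E n x) :=
  TopCat.Presheaf.stalkFunctor_map_unit_toSheafify_isIso (X := X.toTopCat) x AddCommGrpCat.{u} _

theorem unitStalk_germ {x : X} {U : X.Opens} (hx : x ∈ U) (z : (pre E n).obj (op U)) :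
    unitStalk E n x (TopCat.Presheaf.germ (pre E n).presheaf U x hx z) =
      (ext E n).presheaf.germ U x hx (unit E n U z) :=
  TopCat.Presheaf.stalkFunctor_map_germ_apply (X := X.toTopCat) (C := AddCommGrpCat.{u})
    (F := (pre E n).presheaf) (G := (ext E n).presheaf) U x hx _ z

/-- Sections of the sheaf come locally from the presheaf. -/
theorem exists_local {x : X} (a : (ext E n).presheaf.stalk x) :
    ∃ (U : X.Opens) (hx : x ∈ U) (z : ↥(⋀[Γ(X, U)]^n (E.val.obj (op U)))),
      (ext E n).presheaf.germ U x hx (unit E n U z) = a := by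
  obtain ⟨b, rfl⟩ := (ConcreteCategory.bijective_of_isIso (unitStalk E n x)).2 a
  obtain ⟨U, hx, z, rfl⟩ := TopCat.Presheaf.exists_germ_eq (pre E n).presheaf (x := x) b
  exact ⟨U, hx, z, (unitStalk_germ E n hx z).symm⟩

/-- A section with vanishing germ vanishes near the point, in the presheaf. -/
theorem exists_res_eq_zero {x : X} {U : X.Opens} (hx : x ∈ U) (z : ↥(⋀[Γ(X, U)]^n (E.val.obj (op U))))
    (h : (ext E n).presheaf.germ U x hx (unit E n U z) = 0) :
    ∃ (W : X.Opens) (_ : x ∈ W) (hW : W ≤ U),
      semiMap (X.presheaf.map (homOfLE hW).op).hom n (resL E (homOfLE hW).op) z = 0 := by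
  have h1 : TopCat.Presheaf.germ (pre E n).presheaf U x hx z =
      TopCat.Presheaf.germ (pre E n).presheaf U x hx (0 : (pre E n).obj (op U)) := by
    refine (ConcreteCategory.bijective_of_isIso (unitStalk E n x)).1 ?_
    rw [unitStalk_germ, unitStalk_germ]
    exact h.trans ((congrArg _ (map_zero (unit E n U))).trans (map_zero _)).symm
  obtain ⟨W, hxW, i, j, e⟩ := TopCat.Presheaf.germ_eq (pre E n).presheaf x hx hx z 0 h1
  exact ⟨W, hxW, i.le, e.trans (map_zero ((pre E n).presheaf.map j.op).hom)⟩

end ExtTopLib

end
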