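import Mathlib
import Groth.Agent.ExtTopLib.Pre
import Groth.Agent.DetDegLib.Main

/-!
# Existence of the top exterior power of a locally free module
-/

set_option autoImplicit false
set_option linter.style.haveILetI false
set_option linter.unusedSectionVars false

universe u

open CategoryTheory AlgebraicGeometry Opposite TopologicalSpace DevissLib

noncomputable section

namespace ExtTopLib

variable {X : Scheme.{u}} [IsLocallyNoetherian X] {n : ℕ} {E : X.Modules}
  (hE : FlatMod.IsFinLocFreeOfRank n E)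

/-- The wedge of a family of sections, in the sheaf of exterior powers. -/
abbrev wed (U : X.Opens) (e : Fin n → Γ(E, U)) : Γ(ext E n, U) :=
  unit E n U (exteriorPower.ιMulti Γ(X, U) n (M := E.val.obj (op U)) e)

theorem wed_res {U V : X.Opens} (h : V ≤ U) (e : Fin n → Γ(E, U)) :
    (ext E n).presheaf.map (homOfLE h).op (wed U e) =
      wed V fun j => E.presheaf.map (homOfLE h).op (e j) :=
  unit_res E n h e

/-- In a frame on an affine open every element of the exterior power is a multiple of the wedge. -/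
theorem bij_wedge [Coh.IsQCoh E] (U : X.affineOpens) (b : Fin n → Γ(E, U.1))
    (hb : ∀ (y : X) (hy : y ∈ U.1), DetDegLib.FrameAt E b hy) :
    Function.Bijective fun c : Γ(X, U.1) => c • exteriorPower.ιMulti Γ(X, U.1) n (M := E.val.obj (op U.1)) b :=
  DetDegLib.bijective_smul_ιMulti (R := Γ(X, U.1)) (M := E.val.obj (op U.1)) b
    (DetDegLib.frame_bijective U.2 b hb)

theorem semiMap_wedge {U V : X.Opens} (h : V ≤ U) (c : Γ(X, U)) (b : Fin n → Γ(E, U)) :
    semiMap (X.presheaf.map (homOfLE h).op).hom n (resL E (homOfLE h).op)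
        (c • exteriorPower.ιMulti Γ(X, U) n (M := E.val.obj (op U)) b) =
      ((X.presheaf.map (homOfLE h).op c) •
        exteriorPower.ιMulti Γ(X, V) n (M := E.val.obj (op V)) (fun j => E.presheaf.map (homOfLE h).op (b j)) :
          ↥(⋀[Γ(X, V)]^n (E.val.obj (op V)))) := by
  refine (map_smul _ c _).trans ?_
  refine congrArg (fun w : ↥(⋀[Γ(X, V)]^n (E.val.obj (op V))) => X.presheaf.map (homOfLE h).op c • w) ?_
  exact semiMap_ι _ n (resL E (homOfLE h).op) b

/-- The wedge of a frame generates the sheaf of exterior powers. -/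
theorem genAt_wed [Coh.IsQCoh E] (U : X.affineOpens) (b : Fin n → Γ(E, U.1))
    (hb : ∀ (y : X) (hy : y ∈ U.1), DetDegLib.FrameAt E b hy) {x : X} (hx : x ∈ U.1) :
    AmpleLib.GenAt (ext E n) (wed U.1 b) hx := by
  have hres : ∀ {W : X.affineOpens} (hW : W.1 ≤ U.1) (y : X) (hy : y ∈ W.1),
      DetDegLib.FrameAt E (fun j => E.presheaf.map (homOfLE hW).op (b j)) hy := fun hW y hy =>
    (DetDegLib.frameAt_res hW b hy).mpr (hb y _)
  constructor
  · intro c c' h
    rw [← sub_eq_zero]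
    have h0 : (c - c') • (ext E n).presheaf.germ U.1 x hx (wed U.1 b) = 0 :=
      (sub_smul c c' _).trans (sub_eq_zero.mpr h)
    generalize c - c' = d at h0 ⊢
    obtain ⟨V, hxV, r, rfl⟩ := X.presheaf.exists_germ_eq (x := x) d
    obtain ⟨g, hgV, hxg⟩ := QCohLib.exists_basicOpen_nhd U.2 hxV hx
    let W₁ : X.affineOpens := ⟨X.basicOpen g, U.2.basicOpen g⟩
    have h1 : W₁.1 ≤ U.1 := X.basicOpen_le g
    let r₁ := X.presheaf.map (homOfLE (show W₁.1 ≤ V from hgV)).op r
    have h2 : (ext E n).presheaf.germ W₁.1 x hxg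
        (unit E n W₁.1 (r₁ • exteriorPower.ιMulti Γ(X, W₁.1) n (M := E.val.obj (op W₁.1))
          (fun j => E.presheaf.map (homOfLE h1).op (b j)))) = 0 := by
      rw [map_smul]
      refine (AmpleLib.germ_smul (ext E n) r₁ _ hxg).trans ?_
      show X.presheaf.germ W₁.1 x hxg r₁ • (ext E n).presheaf.germ W₁.1 x hxg
        (wed W₁.1 fun j => E.presheaf.map (homOfLE h1).op (b j)) = 0
      rw [← wed_res h1 b, TopCat.Presheaf.germ_res_apply, TopCat.Presheaf.germ_res_apply]
      exact h0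
    obtain ⟨W₂, hxW₂, hW₂, e⟩ := exists_res_eq_zero E n hxg _ h2
    obtain ⟨g', hg'W, hxg'⟩ := QCohLib.exists_basicOpen_nhd U.2 hxW₂ hx
    let W₃ : X.affineOpens := ⟨X.basicOpen g', U.2.basicOpen g'⟩
    rw [semiMap_wedge] at e
    have h3 := congrArg (semiMap (X.presheaf.map (homOfLE (show W₃.1 ≤ W₂ from hg'W)).op).hom n
      (resL E (homOfLE (show W₃.1 ≤ W₂ from hg'W)).op)) e
    rw [semiMap_wedge] at h3
    replace h3 := h3.trans (map_zero _)
    have hfr : ∀ (y : X) (hy : y ∈ W₃.1), DetDegLib.FrameAt E (fun j => E.presheaf.map (homOfLE (show W₃.1 ≤ W₂ from hg'W)).op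
        (E.presheaf.map (homOfLE hW₂).op (E.presheaf.map (homOfLE h1).op (b j)))) hy := fun y hy =>
      (DetDegLib.frameAt_res _ _ hy).mpr ((DetDegLib.frameAt_res _ _ _).mpr ((DetDegLib.frameAt_res _ _ _).mpr (hb y _)))
    have h4 := (bij_wedge W₃ _ hfr).1 (a₁ := X.presheaf.map (homOfLE (show W₃.1 ≤ W₂ from hg'W)).op
      (X.presheaf.map (homOfLE hW₂).op r₁)) (a₂ := 0) (by simp only [zero_smul]; exact h3)
    have h5 := (congrArg (X.presheaf.germ W₃.1 x hxg') h4).trans (map_zero (X.presheaf.germ W₃.1 x hxg').hom)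
    rw [TopCat.Presheaf.germ_res_apply, TopCat.Presheaf.germ_res_apply, TopCat.Presheaf.germ_res_apply] at h5
    exact h5
  · intro a
    obtain ⟨V, hxV, z, rfl⟩ := exists_local E n a
    obtain ⟨g, hgV, hxg⟩ := QCohLib.exists_basicOpen_nhd U.2 hxV hx
    let W : X.affineOpens := ⟨X.basicOpen g, U.2.basicOpen g⟩
    have hWU : W.1 ≤ U.1 := X.basicOpen_le g
    obtain ⟨c, hc⟩ := (bij_wedge W _ (hres hWU)).2
      (semiMap (X.presheaf.map (homOfLE (show W.1 ≤ V from hgV)).op).hom n
        (resL E (homOfLE (show W.1 ≤ V from hgV)).op) z)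
    refine ⟨X.presheaf.germ W.1 x hxg c, ?_⟩
    have h1 := (AmpleLib.germ_smul (ext E n) c (wed W.1 fun j => E.presheaf.map (homOfLE hWU).op (b j)) hxg).symm.trans
      ((congrArg _ (map_smul (unit E n W.1) c _).symm).trans
        (congrArg (fun w => (ext E n).presheaf.germ W.1 x hxg (unit E n W.1 w)) hc))
    rw [← wed_res hWU b, TopCat.Presheaf.germ_res_apply] at h1
    refine h1.trans ?_
    refine Eq.trans ?_ (TopCat.Presheaf.germ_res_apply (ext E n).presheaf (homOfLE (show W.1 ≤ V from hgV)) x hxg _)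
    exact congrArg _ (PresheafOfModules.naturality_apply (unitHom E n) (homOfLE (show W.1 ≤ V from hgV)).op z)

include hE in
theorem exists_good (x : X) {U : X.Opens} (hU : IsAffineOpen U) (hx : x ∈ U) :
    ∃ b : Fin n → Γ(E, U), DetDegLib.FrameAt E b hx ∧ AmpleLib.GenAt (ext E n) (wed U b) hx := by
  haveI : Coh.IsQCoh E := (CurvLib.isCoh_of_locFree hE).1
  obtain ⟨b, hb⟩ := DetDegLib.exists_frame_at hE hU hx
  obtain ⟨h, hxh, hh⟩ := DetDegLib.exists_frame_basicOpen hE hU b hx hb
  have h1 := genAt_wed ⟨X.basicOpen h, hU.basicOpen h⟩ (fun j => E.presheaf.map (homOfLE (X.basicOpen_le h)).op (b j))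
    (fun y hy => (DetDegLib.frameAt_res (X.basicOpen_le h) b hy).mpr (hh y hy)) hxh
  rw [← wed_res (X.basicOpen_le h) b] at h1
  exact ⟨b, hb, (AmpleLib.genAt_res (X.basicOpen_le h) _ hxh).1 h1⟩

include hE in
theorem isInvertible_ext : PicF.IsInvertible (ext E n) := by
  haveI : Coh.IsQCoh E := (CurvLib.isCoh_of_locFree hE).1
  have : ∀ x : X, ∃ (W : X.affineOpens) (_ : x ∈ W.1) (b : Fin n → Γ(E, W.1)),
      ∀ (y : X) (hy : y ∈ W.1), DetDegLib.FrameAt E b hy := by
    intro x
    obtain ⟨V, hV, hxV⟩ := QCohLib.exists_affine_nhd x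
    obtain ⟨b, hb⟩ := DetDegLib.exists_frame_at hE hV hxV
    obtain ⟨h, hxh, hh⟩ := DetDegLib.exists_frame_basicOpen hE hV b hxV hb
    exact ⟨⟨X.basicOpen h, hV.basicOpen h⟩, hxh, _, fun y hy => (DetDegLib.frameAt_res (X.basicOpen_le h) b hy).mpr (hh y hy)⟩
  choose W hW b hb using this
  exact TwistLib.isInvertible_of_genOn (fun x : X => (W x).1) (fun x => ⟨x, hW x⟩) (fun x => wed (W x).1 (b x))
    fun x => TwistLib.genOn_of_genAt fun y hy => genAt_wed (W x) (b x) (hb x) hy

theorem smul_map_eq_zero {R A B : Type*} [CommRing R] [AddCommGroup A] [Module R A] [AddCommGroup B] [Module R B]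
    (f : A →ₗ[R] B) {z w : A} {r c : R} (hc : r • z = c • w) (hz : f z = 0) : c • f w = 0 := by
  rw [← map_smul, ← hc, map_smul, hz, smul_zero]

theorem exists_pt_of_ne_top {X : Scheme.{u}} (U : X.affineOpens) (I : Ideal Γ(X, U.1)) (hI : I ≠ ⊤) :
    ∃ (x : X) (hx : x ∈ U.1), I ≤ (U.2.primeIdealOf ⟨x, hx⟩).asIdeal := by
  obtain ⟨m, hm, hIm⟩ := I.exists_le_maximal hI
  let q : PrimeSpectrum Γ(X, U.1) := ⟨m, hm.isPrime⟩
  have hy : U.2.fromSpec q ∈ U.1 := by
    have : U.2.fromSpec q ∈ Set.range U.2.fromSpec := ⟨q, rfl⟩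
    rwa [U.2.range_fromSpec] at this
  refine ⟨_, hy, ?_⟩
  rw [show U.2.primeIdealOf ⟨U.2.fromSpec q, hy⟩ = q from
    U.2.fromSpec.isOpenEmbedding.injective (U.2.fromSpec_primeIdealOf ⟨_, hy⟩)]
  exact hIm

theorem smul_eq_zero_of_mul {R A : Type*} [CommRing R] [AddCommGroup A] [Module R A] {z w : A} {r r' c : R}
    (hc : r • z = c • w) (h : r' * c = 0) : (r' * r) • z = 0 := by
  rw [mul_smul, hc, smul_smul, h, zero_smul]

theorem exists_smul_eq_wedge {R M : Type u} [CommRing R] [AddCommGroup M] [Module R M] {n : ℕ} (p : Ideal R)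
    (hp : p.IsPrime) (b : Fin n → M) (h : ∀ v : M, ∃ r : R, r ∉ p ∧ r • v ∈ Submodule.span R (Set.range b))
    (z : ↥(⋀[R]^n M)) : ∃ r : R, r ∉ p ∧ ∃ c : R, r • z = c • exteriorPower.ιMulti R n b := by
  classical
  have hz : z ∈ Submodule.span R (Set.range (exteriorPower.ιMulti R n (M := M))) := by
    rw [exteriorPower.ιMulti_span]
    trivial
  induction hz using Submodule.span_induction with
  | mem _ hv =>
    obtain ⟨v, rfl⟩ := hv
    choose r hr hrs using fun j => h (v j)
    choose G hG using fun j => (Submodule.mem_span_range_iff_exists_fun _).1 (hrs j)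
    refine ⟨∏ j, r j, fun h => ?_, Matrix.det (Matrix.of fun i j => G j i), ?_⟩
    · obtain ⟨j, -, hj⟩ := (Ideal.IsPrime.prod_mem_iff (hp := hp)).1 h
      exact hr j hj
    · rw [← AlternatingMap.map_smul_univ]
      let f := (exteriorPower.ιMulti R n (M := M)).compLinearMap (Fintype.linearCombination R b)
      have e := DetDegLib.alt_eq (Pi.basisFun R (Fin n)) f G
      rw [Module.Basis.det_apply] at e
      have e1 : f G = exteriorPower.ιMulti R n fun i => r i • v i :=
        congrArg (exteriorPower.ιMulti R n) (funext fun j => hG j)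
      have e2 : f (Pi.basisFun R (Fin n)) = exteriorPower.ιMulti R n b :=
        congrArg (exteriorPower.ιMulti R n) (funext fun i => by simp [Fintype.linearCombination_apply_single])
      rw [← e1, e, e2]
      congr 2
  | zero => exact ⟨1, fun h => hp.ne_top ((Ideal.eq_top_iff_one _).2 h), 0, by simp⟩
  | add a a' _ _ ha ha' =>
    obtain ⟨r, hr, c, hc⟩ := ha
    obtain ⟨r', hr', c', hc'⟩ := ha'
    refine ⟨r * r', fun h => (hp.mem_or_mem h).elim hr hr', r' * c + r * c', ?_⟩
    rw [smul_add, add_smul, mul_smul, mul_smul, mul_smul, smul_comm r r' a, hc, hc', mul_smul r c']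
  | smul d a _ ha =>
    obtain ⟨r, hr, c, hc⟩ := ha
    exact ⟨r, hr, d * c, by rw [smul_comm, hc, mul_smul]⟩

include hE in
theorem unit_injective (U : X.affineOpens) : Function.Injective (unit E n U.1) := by
  classical
  haveI : Coh.IsQCoh E := (CurvLib.isCoh_of_locFree hE).1
  rw [injective_iff_map_eq_zero]
  intro z hz
  let I : Ideal Γ(X, U.1) := LinearMap.ker (LinearMap.toSpanSingleton Γ(X, U.1) _ z)
  by_contra hne
  have hI : I ≠ ⊤ := fun h => hne (by
    have : (1 : Γ(X, U.1)) ∈ I := h ▸ trivial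
    simpa [I] using this)
  obtain ⟨x, hx, hIx⟩ := exists_pt_of_ne_top U I hI
  let p := (U.2.primeIdealOf ⟨x, hx⟩).asIdeal
  obtain ⟨b, hb, hgen⟩ := exists_good hE x U.2 hx
  let w := exteriorPower.ιMulti Γ(X, U.1) n (M := E.val.obj (op U.1)) b
  have key := exists_smul_eq_wedge p (U.2.primeIdealOf ⟨x, hx⟩).2 (M := E.val.obj (op U.1)) b
    fun v => DetDegLib.exists_denom U.2 b hx hb v
  obtain ⟨r, hr, c, hc⟩ := key z
  have h1' : (c • wed U.1 b : Γ(ext E n, U.1)) = 0 := smul_map_eq_zero (unit E n U.1) hc hz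
  have h2 : X.presheaf.germ U.1 x hx c • (ext E n).presheaf.germ U.1 x hx (wed U.1 b) = 0 :=
    (AmpleLib.germ_smul (ext E n) c (wed U.1 b) hx).symm.trans
    ((congrArg ((ext E n).presheaf.germ U.1 x hx) h1').trans (map_zero _))
  have h3 : X.presheaf.germ U.1 x hx c = 0 := by
    refine hgen.1 (a₁ := X.presheaf.germ U.1 x hx c) (a₂ := 0) ?_
    exact h2.trans (zero_smul (X.presheaf.stalk x) _).symm
  letI := X.presheaf.algebra_section_stalk (⟨x, hx⟩ : U.1)
  haveI : IsLocalization.AtPrime (X.presheaf.stalk x) p := U.2.isLocalization_stalk ⟨x, hx⟩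
  obtain ⟨⟨r', hr'⟩, hrc⟩ := (IsLocalization.map_eq_zero_iff p.primeCompl (X.presheaf.stalk x) c).1 h3
  have hmem : r' * r ∈ I := by
    show (r' * r) • z = 0
    exact smul_eq_zero_of_mul (A := ↥(⋀[Γ(X, U.1)]^n (E.val.obj (op U.1)))) (z := z) (r := r) (c := c) hc hrc
  exact ((U.2.primeIdealOf ⟨x, hx⟩).2.mem_or_mem (hIx hmem)).elim hr' hr

include hE in
theorem unit_surjective (U : X.affineOpens) : Function.Surjective (unit E n U.1) := by
  classical
  haveI : Coh.IsQCoh E := (CurvLib.isCoh_of_locFree hE).1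
  haveI : Coh.IsQCoh (ext E n) := (CurvLib.isCoh_of_isInvertible (isInvertible_ext hE)).1
  intro t
  let R' : Submodule Γ(X, U.1) ((ext E n).val.obj (op U.1)) := LinearMap.range (unit E n U.1)
  let I : Ideal Γ(X, U.1) := R'.comap (LinearMap.toSpanSingleton Γ(X, U.1) _ t)
  suffices I = ⊤ by
    have h1 : (1 : Γ(X, U.1)) ∈ I := this ▸ trivial
    simpa [I, R'] using h1
  by_contra hI
  obtain ⟨x, hx, hIx⟩ := exists_pt_of_ne_top U I hI
  obtain ⟨b, -, hgen⟩ := exists_good hE x U.2 hx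
  obtain ⟨r, hr, hrt⟩ := DetDegLib.exists_denom (n := 1) U.2 (fun _ => wed U.1 b) hx
    ((DetDegLib.frameAt_one_iff (wed U.1 b) hx).2 hgen) t
  refine hr (hIx ?_)
  obtain ⟨c, hc⟩ := (Submodule.mem_span_range_iff_exists_fun _).1 hrt
  show r • t ∈ R'
  rw [Fin.sum_univ_one] at hc
  exact ⟨c 0 • exteriorPower.ιMulti Γ(X, U.1) n (M := E.val.obj (op U.1)) b, (map_smul _ _ _).trans hc⟩

include hE in
theorem unit_bijective (U : X.affineOpens) : Function.Bijective (unit E n U.1) :=
  ⟨unit_injective hE U, unit_surjective hE U⟩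

include hE in
/-- A locally free module has a top exterior power. -/
theorem exists_isExtPow : ∃ L : X.Modules, ExtPow.IsExtPow n E L := by
  refine ⟨ext E n, fun U => (LinearEquiv.ofBijective (unit E n U.1) (unit_bijective hE U)).symm, fun U V h e => ?_⟩
  rw [LinearEquiv.symm_symm, LinearEquiv.symm_symm]
  exact unit_res E n h e

end ExtTopLib

end
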